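/-! Generated data: certificates for the lifts of the subgroup of shape `2^11:M24`. -/

set_option autoImplicit false
set_option maxRecDepth 20000

namespace Cfsg.Lib.J4Mult

/-- The masks of the conjugates of the bits by four letters. -/
def actT : List (List Nat) :=
  [[1, 1146, 1394, 1585, 1117, 283, 782, 757, 1591, 334, 1025],
    [1, 1146, 1394, 1585, 1117, 283, 782, 757, 1591, 334, 1025],
    [1130, 771, 297, 1963, 757, 524, 1114, 1827, 1934, 989, 234],
    [532, 826, 1603, 340, 1310, 1375, 749, 476, 1563, 1847, 1501]]

/-- The change of lifts. -/
def adjT : List Nat :=
  [76, 2453667926, 20971610, 2189426760, 2449473560, 2470445084, 285212744, 2436890700, 293601346, 285212686, 2462056454]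

/-- The pairs below eleven. -/
def pairT : List (Nat × Nat) :=
  [(1, 0), (2, 0), (2, 1), (3, 0), (3, 1), (3, 2), (4, 0), (4, 1), (4, 2), (4, 3), (5, 0), (5, 1), (5, 2), (5, 3), (5, 4), (6, 0), (6, 1), (6, 2), (6, 3), (6, 4), (6, 5), (7, 0), (7, 1), (7, 2), (7, 3), (7, 4), (7, 5), (7, 6), (8, 0), (8, 1), (8, 2), (8, 3), (8, 4), (8, 5), (8, 6), (8, 7), (9, 0), (9, 1), (9, 2), (9, 3), (9, 4), (9, 5), (9, 6), (9, 7), (9, 8), (10, 0), (10, 1), (10, 2), (10, 3), (10, 4), (10, 5), (10, 6), (10, 7), (10, 8), (10, 9)]

/-- Combinations for the commutators. -/
def combB : List Nat :=
  [9942570928113211925487629224, 17331203066425764562992116659, 9913946253200953084727071079, 9951917932786893428454461611, 7496014256099428373478384166, 7427647816819692785910491866, 7438023679132483028196725432, 17370762638498978091613565575, 2476315755393589427437187395, 14913424728144329126518728856, 9913946253381096930236113226, 5000124805765277732104381193, 9942570743645771324220840533, 14874664725040872700474688001, 4962387982378692496618234683, 4990768287183340485546016787, 9952870480064821575837170322, 4991161326771172107228361290, 2524274164919438430889196228, 2476516675276398839812925563, 7428319355513687827397488682, 14904674317078696721754628664, 7496407799766159227130880779,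 14903661168031117052152855368, 48847374227633472088652635, 2544096334476253428055351684, 2505428377815478645496679197, 7476473290510712715813587031, 17341194748559852138832400563, 14885325885598226583294524332, 17340911367191404818420861329, 14914339746205986732707747890, 14923304062869623045719199830, 14913350460796083636961553407, 4962478881664477195684614354, 14923376102953665622400371060, 4990768287183340485546016794, 38799046213749462146482401, 5000758528633921666250313745, 48401101299572659341035617, 10423664311868685692254348, 4952393019822636206708959331, 9816745859400406286274763, 4990992532037282385715997620, 17340875797401259874455861880, 2485881203204028724715004747, 14874743017994695375539289061, 2515520164881219502215530916, 12427864908114749176199195464, 9923786742614049740562901571, 7447700105689775105559505453, 14865026445809892964547235871, 4962357501223781058245761058, 2544192943533732096329449653, 17340906526758554255036332751]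

/-- Combinations for the squares. -/
def combQ : List Nat :=
  [76, 1198166, 10330, 1069128, 1196056, 1206300, 139336, 1189964, 143426, 139278, 1202182]

/-- Combinations for the twists. -/
def combC : List Nat :=
  [76, 0, 0, 0, 0, 94, 0, 618999091711350303702933588, 6, 70, 92, 151115727451828646838348, 302231454903657293676546, 604462909807314587353092, 1208925819614629174706184, 2417851639229258349412368, 3191655659949885969399882, 9671406556917033397649472, 619908885129100843160723538, 38685626227668133590597640, 77371252455336267181195270, 126958904430637114521026650, 0, 0, 0, 0, 59392, 63488, 0, 18432, 49152, 0, 6144, 309485009821345068724840448, 618970019642690137449615360, 309493495359647772137500694, 618993483937180693018185792, 618994812066725203086942294, 928461670327930538631895062, 928457021712395166805979208, 619003297605027906499663936, 928486610289889396926767190, 618989130469550500545038416, 12691395951509190529038]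

end Cfsg.Lib.J4Mult
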