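import Mathlib.GroupTheory.Commutator.Basic
import Mathlib.Algebra.Group.Commutator
import Mathlib.GroupTheory.Subgroup.Center
import Mathlib.Data.Nat.Bitwise
import Mathlib.Tactic.Group

/-!
# Products of commuting involutions indexed by bit masks
-/

set_option autoImplicit false

open scoped commutatorElement

namespace Cfsg.Lib.J4Mult

variable {Γ : Type*} [Group Γ]

/-- The ordered product of the elements selected by the bits of a mask below a bound. -/
def mv (f : ℕ → Γ) : ℕ → ℕ → Γ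
  | 0, _ => 1
  | n + 1, v => mv f n v * cond (v.testBit n) (f n) 1

/-- The sum of the selected masks. -/
def comb : List ℕ → ℕ → ℕ
  | [], _ => 0
  | e :: L, c => cond (c.testBit 0) e 0 ^^^ comb L (c / 2)

theorem mv_mem {f : ℕ → Γ} {H : Subgroup Γ} : ∀ n, (∀ i < n, f i ∈ H) → ∀ v, mv f n v ∈ H
  | 0, _, _ => one_mem _
  | n + 1, h, v => by
    rw [mv]
    refine mul_mem (mv_mem n (fun i hi => h i (by omega)) v) ?_
    cases v.testBit n
    · exact one_mem _
    · exact h n (by omega)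

theorem mv_zero (f : ℕ → Γ) : ∀ n, mv f n 0 = 1
  | 0 => rfl
  | n + 1 => by simp [mv, mv_zero f n]

theorem mv_commute {f : ℕ → Γ} {x : Γ} : ∀ n, (∀ i < n, Commute x (f i)) → ∀ v, Commute x (mv f n v)
  | 0, _, _ => Commute.one_right _
  | n + 1, h, v => by
    rw [mv]
    refine (mv_commute n (fun i hi => h i (by omega)) v).mul_right ?_
    cases v.testBit n
    · exact Commute.one_right _
    · exact h n (by omega)

theorem mv_xor {f : ℕ → Γ} : ∀ n, (∀ i < n, ∀ j < n, Commute (f i) (f j)) →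
    (∀ i < n, f i * f i = 1) → ∀ a b, mv f n a * mv f n b = mv f n (a ^^^ b)
  | 0, _, _, _, _ => by simp [mv]
  | n + 1, hc, hs, a, b => by
    have h1 := mv_commute n (fun i hi => hc n (by omega) i (by omega)) b
    have ih := mv_xor n (fun i hi j hj => hc i (by omega) j (by omega))
      (fun i hi => hs i (by omega)) a b
    rw [mv, mv, mv, Nat.testBit_xor]
    cases a.testBit n <;> cases b.testBit n <;> simp only [cond_true, cond_false, mul_one,
      Bool.xor_false, Bool.xor_true, Bool.not_false, Bool.not_true, Bool.false_xor, Bool.true_xor]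
    · exact ih
    · rw [← mul_assoc, ih]
    · rw [mul_assoc, h1.eq, ← mul_assoc, ih]
    · rw [← mul_assoc, mul_assoc (mv f n a), h1.eq, ← mul_assoc, ih, mul_assoc, hs n (by omega),
        mul_one]

theorem mv_two_pow_aux (f : ℕ → Γ) (i : ℕ) : ∀ n, (n ≤ i → mv f n (2 ^ i) = 1) ∧
    (i < n → mv f n (2 ^ i) = f i) := by
  intro n
  induction n with
  | zero => exact ⟨fun _ => rfl, fun h => absurd h (by omega)⟩
  | succ n ih =>
    rw [mv, Nat.testBit_two_pow]
    refine ⟨fun h => ?_, fun h => ?_⟩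
    · rw [ih.1 (by omega), decide_eq_false (by omega)]; simp
    · rcases Nat.lt_or_ge i n with h' | h'
      · rw [ih.2 h', decide_eq_false (by omega)]; simp
      · obtain rfl : i = n := by omega
        rw [ih.1 le_rfl]; simp

theorem mv_two_pow (f : ℕ → Γ) {i n : ℕ} (h : i < n) : mv f n (2 ^ i) = f i :=
  (mv_two_pow_aux f i n).2 h

theorem mv_mod (f : ℕ → Γ) (m : ℕ) : ∀ n ≤ m, ∀ v, mv f n (v % 2 ^ m) = mv f n v
  | 0, _, _ => rfl
  | n + 1, h, v => by
    rw [mv, mv, mv_mod f m n (by omega) v, Nat.testBit_mod_two_pow]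
    simp [show n < m by omega]

theorem mv_comb {f : ℕ → Γ} {n : ℕ} (hc : ∀ i < n, ∀ j < n, Commute (f i) (f j))
    (hs : ∀ i < n, f i * f i = 1) : ∀ L : List ℕ, (∀ e ∈ L, mv f n e = 1) →
      ∀ c, mv f n (comb L c) = 1
  | [], _, _ => mv_zero f n
  | e :: L, h, c => by
    rw [comb, ← mv_xor n hc hs, mv_comb hc hs L (fun x hx => h x (List.mem_cons_of_mem _ hx)),
      mul_one]
    cases c.testBit 0
    · exact mv_zero f n
    · exact h e (by simp)

/-- All elements below a bound are in a set of central involutions. -/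
theorem eq_one_of_comb {f : ℕ → Γ} {n : ℕ} (hc : ∀ i < n, ∀ j < n, Commute (f i) (f j))
    (hs : ∀ i < n, f i * f i = 1) (L : List ℕ) (h : ∀ e ∈ L, mv f n e = 1) {t c : ℕ}
    (ht : Nat.beq (comb L c) t = true) : mv f n t = 1 := by
  rw [← Nat.eq_of_beq_eq_true ht]
  exact mv_comb hc hs L h c

theorem comm_mul_left {x y z : Γ} (h : ⁅y, z⁆ ∈ Subgroup.center Γ) : ⁅x * y, z⁆ = ⁅x, z⁆ * ⁅y, z⁆ := by
  have hc := Subgroup.mem_center_iff.1 h
  calc ⁅x * y, z⁆ = x * ⁅y, z⁆ * z * x⁻¹ * z⁻¹ := by simp [commutatorElement_def, mul_assoc]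
    _ = ⁅y, z⁆ * ⁅x, z⁆ := by rw [hc x]; simp [commutatorElement_def, mul_assoc]
    _ = ⁅x, z⁆ * ⁅y, z⁆ := (hc _).symm

theorem comm_mul_right {x y z : Γ} (h : ⁅x, z⁆ ∈ Subgroup.center Γ) : ⁅x, y * z⁆ = ⁅x, y⁆ * ⁅x, z⁆ := by
  have hc := Subgroup.mem_center_iff.1 h
  calc ⁅x, y * z⁆ = ⁅x, y⁆ * (y * ⁅x, z⁆ * y⁻¹) := by simp [commutatorElement_def, mul_assoc]
    _ = ⁅x, y⁆ * ⁅x, z⁆ := by rw [hc y, mul_inv_cancel_right]

theorem comm_central {z t : Γ} (hz : z ∈ Subgroup.center Γ) (ht : t ∈ Subgroup.center Γ) (x y : Γ) :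
    ⁅x * z, y * t⁆ = ⁅x, y⁆ := by
  have e1 : ∀ w : Γ, ⁅z, w⁆ = 1 := fun w =>
    commutatorElement_eq_one_iff_mul_comm.2 (Subgroup.mem_center_iff.1 hz w).symm
  have e2 : ∀ w : Γ, ⁅w, t⁆ = 1 := fun w =>
    commutatorElement_eq_one_iff_mul_comm.2 (Subgroup.mem_center_iff.1 ht w)
  rw [comm_mul_left (by rw [e1]; exact one_mem _), e1, mul_one,
    comm_mul_right (by rw [e2]; exact one_mem _), e2, mul_one]

end Cfsg.Lib.J4Mult
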