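import Cfsg.Agent.Lib.J4Iso.Sextets
import Cfsg.Agent.Lib.J4Mult.Data
import Cfsg.Agent.Lib.J4Mult.Mask

/-!
# The linear certificates for the lifts of the subgroup of shape `2^11:M24`
-/

set_option autoImplicit false
set_option maxRecDepth 20000

namespace Cfsg.Lib.J4Mult

open Cfsg.Lib.J4Iso (tP maskImg)

/-- The mask of the conjugate of a bit by a letter. -/
def act (g i : ℕ) : ℕ := (actT.getD g []).getD i 0

/-- The index of a pair. -/
def pid (a b : ℕ) : ℕ := if b < a then a * (a - 1) / 2 + b else b * (b - 1) / 2 + a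

/-- The commutator mask of a mask with a bit. -/
def rowMask : ℕ → ℕ → ℕ → ℕ
  | 0, _, _ => 0
  | n + 1, v, b => rowMask n v b ^^^ cond (v.testBit n && !(Nat.beq n b)) (2 ^ pid n b) 0

/-- The commutator mask of two masks. -/
def pairMask : ℕ → ℕ → ℕ → ℕ
  | 0, _, _ => 0
  | n + 1, v, w => pairMask n v w ^^^ cond (w.testBit n) (rowMask 11 v n) 0

/-- The image of a mask under a letter. -/
def linMask (g : ℕ) : ℕ → ℕ → ℕ
  | 0, _ => 0
  | n + 1, u => linMask g n u ^^^ cond (u.testBit n) (act g n) 0

/-- The twist of a mask under a letter. -/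
def twistMask (g : ℕ) : ℕ → ℕ → ℕ
  | 0, _ => 0
  | n + 1, u => twistMask g n u ^^^ cond (u.testBit n) (2 ^ (11 * g + n)) 0

/-- A mask through a word. -/
def runWord : List ℕ → ℕ → ℕ × ℕ
  | [], u => (u, 0)
  | g :: w, u => (linMask g 11 (runWord w u).1, (runWord w u).2 ^^^ twistMask g 11 (runWord w u).1)

/-- The change of a mask. -/
def adjMask : ℕ → ℕ → ℕ
  | 0, _ => 0
  | n + 1, v => adjMask n v ^^^ cond (v.testBit n) (adjT.getD n 0) 0

/-- The number of a letter in the order of the packed elements. -/
def swapL (g : ℕ) : ℕ := [0, 2, 1, 3].getD g 0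

/-- The relators in the letters of the packed elements. -/
def relWords : List (List ℕ) :=
  J4Pres.baseWords.map (fun w => w.map swapL) ++ [[0, 1], [2, 3]]

/-- The equations of the commutators. -/
def eqsB : List ℕ :=
  [0, 2].flatMap fun g => pairT.map fun p =>
    pairMask 11 (act g p.1) (act g p.2) ^^^ 2 ^ pid p.1 p.2

/-- The equations of the squares. -/
def eqsQ : List ℕ := [0, 2].flatMap fun g => (List.range 11).map fun i => act g i ^^^ 2 ^ i

/-- The equations of the twists. -/
def eqsC : List ℕ :=
  relWords.flatMap fun w => (List.range 11).map fun i => (runWord w (2 ^ i)).2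

theorem act_ok : ((List.range 4).all fun g => (List.range 11).all fun i =>
    Nat.beq (maskImg (tP g) (2 ^ i)) (act g i)) = true := by decide +kernel

theorem pairs_ok : ((List.range 55).all fun j =>
    Nat.blt (pairT.getD j (0, 0)).2 (pairT.getD j (0, 0)).1 &&
    Nat.blt (pairT.getD j (0, 0)).1 11 &&
    Nat.beq (pid (pairT.getD j (0, 0)).1 (pairT.getD j (0, 0)).2) j) = true ∧
    ((List.range 11).all fun a => (List.range a).all fun b => Nat.blt (pid a b) 55 &&
      Nat.beq (pid b a) (pid a b) && Nat.beq (pairT.getD (pid a b) (0, 0)).1 a &&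
      Nat.beq (pairT.getD (pid a b) (0, 0)).2 b) = true ∧ pairT.length = 55 :=
  ⟨by decide +kernel, by decide +kernel, rfl⟩

theorem rels_lt : (relWords.all fun w => w.all fun g => Nat.blt g 4) = true := by decide +kernel

theorem fixed_ok : (relWords.all fun w => (List.range 11).all fun i =>
    Nat.beq (runWord w (2 ^ i)).1 (2 ^ i)) = true := by decide +kernel

theorem combB_ok : ((List.range 55).all fun j =>
    Nat.beq (comb eqsB (combB.getD j 0)) (2 ^ j)) = true := by decide +kernel

theorem combQ_ok : ((List.range 11).all fun j =>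
    Nat.beq (comb eqsQ (combQ.getD j 0)) (2 ^ j)) = true := by decide +kernel

theorem combC_ok : ((List.range 4).all fun g => (List.range 11).all fun i =>
    Nat.beq (comb eqsC (combC.getD (11 * g + i) 0))
      (2 ^ (11 * g + i) ^^^ adjT.getD i 0 ^^^ adjMask 11 (act g i))) = true := by decide +kernel

end Cfsg.Lib.J4Mult
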