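import Cfsg.Agent.Lib.J4Iso.Index
import Cfsg.Agent.Lib.J4Mult.Checks
import Cfsg.Agent.Lib.Concrete.MathieuStem
import Cfsg.Agent.Lib.Concrete.MathieuPerfect

/-!
# No stem extensions of prime degree of the subgroup of shape `2^11:M24`
-/

set_option autoImplicit false
set_option maxRecDepth 20000

open scoped commutatorElement

namespace Cfsg.Lib.J4Mult

open Cfsg.Lib.Concrete (NoStem)
open Cfsg.Lib.J4Iso
open Cfsg.Lib.J4Pres (TwoGroup twoGen twoGen_gen twoGen_rels twoGen_pair twoGroup_iso)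

theorem el_swap : ∀ g < 4, el (swapL g) = twoGen g := by
  obtain ⟨h0, h1, h2, h3⟩ := el_first
  intro g hg
  interval_cases g
  · exact h0
  · exact h2
  · exact h1
  · exact h3

theorem relWords_el : ∀ w ∈ relWords, (w.map el).prod = 1 := by
  intro w hw
  rw [relWords, List.mem_append] at hw
  rcases hw with hw | hw
  · obtain ⟨b, hb, rfl⟩ := List.mem_map.1 hw
    rw [List.map_map, List.map_congr_left (f := el ∘ swapL) (g := twoGen) fun g hg => el_swap g ?_]
    · exact twoGen_rels b hb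
    · simpa [Nat.blt_eq] using
        List.all_eq_true.1 (List.all_eq_true.1 J4Pres.base_lt b hb) g hg
  · obtain ⟨h0, h1, h2, h3⟩ := el_first
    simp only [List.mem_cons, List.not_mem_nil, or_false] at hw
    rcases hw with rfl | rfl
    · simpa [h0, h1] using twoGen_pair 0 (by norm_num)
    · simpa [h2, h3] using twoGen_pair 1 (by norm_num)

theorem kG_act {g i : ℕ} (hg : g < 4) (hi : i < 11) :
    kG (el g) * eG (2 ^ i) * (kG (el g))⁻¹ = eG (act g i) := by
  have h := List.all_eq_true.1 (List.all_eq_true.1 act_ok g (List.mem_range.2 hg)) i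
    (List.mem_range.2 hi)
  rw [eG_conj (el g) (tP g) _ (el_rep g), Nat.eq_of_beq_eq_true h, mul_inv_cancel_right]

theorem kG_injective : Function.Injective kG := fun a b h => by
  have := congrArg piG h
  rw [piG_kG, piG_kG] at this
  exact J4Real.kEmb_inj this

/-- The complement inside the subgroup. -/
noncomputable def kM : TwoGroup →* MG := kG.codRestrict MG kG_mem_MG

theorem kM_val (a : TwoGroup) : (kM a : PG) = kG a := rfl

theorem card_two : Nat.card TwoGroup = 244823040 := by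
  obtain ⟨e⟩ := twoGroup_iso
  rw [Nat.card_congr e.toEquiv, Concrete.card_M24]

theorem range_kM (p : ℕ) (hp : p.Prime) :
    NoStem p kM.range ∧ ⁅kM.range, kM.range⁆ = kM.range := by
  obtain ⟨e⟩ := twoGroup_iso
  have hinj : Function.Injective kM := fun a b h => kG_injective (congrArg Subtype.val h)
  let f : Concrete.g24 ≃* TwoGroup := (MulEquiv.subgroupCongr Concrete.fixB_zero).trans e.symm
  constructor
  · exact (Concrete.noStem_M24 p hp).of_equiv (f.trans (MonoidHom.ofInjective hinj))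
  · let χ : Concrete.g24 →* MG := kM.comp f.toMonoidHom
    have hr : kM.range = (⊤ : Subgroup Concrete.g24).map χ := by
      rw [← MonoidHom.range_eq_map]
      refine le_antisymm ?_ ?_
      · rintro _ ⟨a, rfl⟩
        exact ⟨f.symm a, congrArg kM (f.apply_symm_apply a)⟩
      · rintro _ ⟨a, rfl⟩
        exact ⟨f a, rfl⟩
    have htop : ⁅(⊤ : Subgroup Concrete.g24), (⊤ : Subgroup Concrete.g24)⁆ = ⊤ := by
      refine Subgroup.map_injective Concrete.g24.subtype_injective ?_
      rw [Subgroup.map_commutator, ← MonoidHom.range_eq_map, Subgroup.range_subtype]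
      exact Concrete.perfect_fixB_zero
    rw [hr, ← Subgroup.map_commutator, htop]

variable {Γ : Type} [Group Γ] {σ : Γ →* MG}

theorem exists_section [Finite Γ] {p : ℕ} (hp : p.Prime) (hs : Function.Surjective σ)
    (hc : σ.ker ≤ Subgroup.center Γ) (hcard : Nat.card σ.ker = p) :
    ∃ s : TwoGroup →* Γ, ∀ a, σ (s a) = kM a := by
  obtain ⟨hno, hperf⟩ := range_kM p hp
  obtain ⟨K, hK, hbot, htop⟩ :=
    Concrete.exists_complement_of_noStem hp σ hs hc hcard kM.range hperf hno
  let τ : K →* kM.range := (σ.comp K.subtype).codRestrict _ fun x => hK x.2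
  have hτ : Function.Bijective τ := by
    refine ⟨(injective_iff_map_eq_one τ).2 fun x hx => ?_, fun y => ?_⟩
    · have h : (x : Γ) ∈ K ⊓ σ.ker := ⟨x.2, MonoidHom.mem_ker.2 (congrArg Subtype.val hx)⟩
      rw [hbot, Subgroup.mem_bot] at h
      exact Subtype.ext h
    · obtain ⟨x, hx⟩ := hs y.1
      have hm : x ∈ ((K ⊔ σ.ker : Subgroup Γ) : Set Γ) := htop.symm ▸ (show σ x ∈ kM.range from hx ▸ y.2)
      rw [Subgroup.mul_normal] at hm
      obtain ⟨k, hk, z, hz, rfl⟩ := Set.mem_mul.1 hm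
      exact ⟨⟨k, hk⟩, Subtype.ext (by
        show σ k = _
        rw [← hx, map_mul, MonoidHom.mem_ker.1 hz, mul_one])⟩
  let e := MulEquiv.ofBijective τ hτ
  refine ⟨K.subtype.comp (e.symm.toMonoidHom.comp kM.rangeRestrict), fun a => ?_⟩
  exact congrArg Subtype.val (e.apply_symm_apply (kM.rangeRestrict a))

theorem map_mv {E : ℕ → Γ} (hE : ∀ i < 11, (σ (E i) : PG) = eG (2 ^ i)) :
    ∀ n ≤ 11, ∀ v, (σ (mv E n v) : PG) = eGn n v
  | 0, _, _ => by simp [mv, eGn]
  | n + 1, hn, v => by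
    rw [mv, map_mul, Subgroup.coe_mul, map_mv hE n (by omega) v, eGn]
    cases v.testBit n
    · simp
    · simp only [cond_true]
      rw [hE n (by omega), eG_two_pow (by omega)]

theorem act_lift {s : TwoGroup →* Γ} (hs : ∀ a, σ (s a) = kM a) {E : ℕ → Γ}
    (hE : ∀ i < 11, (σ (E i) : PG) = eG (2 ^ i)) {g i : ℕ} (hg : g < 4) (hi : i < 11) :
    (mv E 11 (act g i))⁻¹ * (s (el g) * E i * (s (el g))⁻¹) ∈ σ.ker := by
  rw [MonoidHom.mem_ker, map_mul, map_inv, inv_mul_eq_one]
  refine Subtype.ext ?_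
  rw [map_mv hE 11 le_rfl, map_mul, map_mul, map_inv, Subgroup.coe_mul, Subgroup.coe_mul,
    Subgroup.coe_inv, hs, kM_val, hE i hi, kG_act hg hi]
  rfl

theorem not_le_of_lift [Finite Γ] {p : ℕ} (hp : p.Prime) (hs' : Function.Surjective σ)
    (hc : σ.ker ≤ Subgroup.center Γ) (hcard : Nat.card σ.ker = p) (s : TwoGroup →* Γ)
    (hs : ∀ a, σ (s a) = kM a) (E : ℕ → Γ) (hE : ∀ i < 11, (σ (E i) : PG) = eG (2 ^ i))
    (hcm : ∀ i < 11, ∀ j < 11, Commute (E i) (E j)) (hsq : ∀ i < 11, E i * E i = 1)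
    (hact : ∀ g < 4, ∀ i < 11, s (el g) * E i * (s (el g))⁻¹ = mv E 11 (act g i)) :
    ¬ σ.ker ≤ commutator Γ := by
  have hconj : ∀ a : TwoGroup, ∀ v, ∃ w, s a * mv E 11 v * (s a)⁻¹ = mv E 11 w := by
    have hgen : ∀ g < 4, ∀ v, ∃ w, s (el g) * mv E 11 v * (s (el g))⁻¹ = mv E 11 w := by
      intro g hg
      have key : ∀ n ≤ 11, ∀ v, ∃ w, s (el g) * mv E n v * (s (el g))⁻¹ = mv E 11 w := by
        intro n
        induction n with
        | zero => intro _ v; exact ⟨0, by simp [mv, mv_zero]⟩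
        | succ n ih =>
          intro hn v
          obtain ⟨w, hw⟩ := ih (by omega) v
          refine ⟨w ^^^ cond (v.testBit n) (act g n) 0, ?_⟩
          rw [← mv_xor 11 hcm hsq, ← hw, mv]
          cases v.testBit n
          · simp [mv_zero]
          · simp only [cond_true]
            rw [← hact g hg n (by omega)]
            simp [mul_assoc]
      exact key 11 le_rfl
    intro a
    haveI : Finite TwoGroup := Nat.finite_of_card_ne_zero (by rw [card_two]; norm_num)
    have hm : a ∈ Submonoid.closure (twoGen '' {g | g < 2}) := by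
      rw [← Subgroup.closure_toSubmonoid_of_finite, Subgroup.mem_toSubmonoid, twoGen_gen]; trivial
    induction hm using Submonoid.closure_induction with
    | mem x hx =>
      obtain ⟨g, hg, rfl⟩ := hx
      have hg' : g < 2 := hg
      intro v
      rw [← el_swap g (by omega)]
      exact hgen _ (by interval_cases g <;> decide) v
    | one => intro v; exact ⟨v, by simp⟩
    | mul x y _ _ hx hy =>
      intro v
      obtain ⟨w, hw⟩ := hy v
      obtain ⟨u, hu⟩ := hx w
      exact ⟨u, by rw [← hu, ← hw, map_mul]; simp [mul_assoc]⟩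
  let N : Submonoid Γ :=
    { carrier := {x | ∃ v a, x = mv E 11 v * s a}
      one_mem' := ⟨0, 1, by simp [mv_zero]⟩
      mul_mem' := by
        rintro _ _ ⟨v, a, rfl⟩ ⟨w, b, rfl⟩
        obtain ⟨u, hu⟩ := hconj a w
        refine ⟨v ^^^ u, a * b, ?_⟩
        rw [← mv_xor 11 hcm hsq, ← hu, map_mul]
        simp [mul_assoc] }
  let L : Subgroup Γ :=
    { N with
      inv_mem' := fun {x} hx => by
        obtain ⟨k, hk⟩ := (isOfFinOrder_of_finite x).mem_powers_iff_mem_zpowers.2
          (Subgroup.inv_mem _ (Subgroup.mem_zpowers x))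
        show x⁻¹ ∈ N
        rw [← hk]
        exact pow_mem (show x ∈ N from hx) k }
  let pL : Fin 2048 × TwoGroup → L := fun q => ⟨mv E 11 q.1 * s q.2, q.1, q.2, rfl⟩
  have hp' : Function.Surjective pL := by
    rintro ⟨_, v, a, rfl⟩
    exact ⟨(⟨v % 2 ^ 11, Nat.mod_lt _ (by norm_num)⟩, a),
      Subtype.ext (congrArg (· * s a) (mv_mod E 11 11 le_rfl v))⟩
  haveI : Finite TwoGroup := Nat.finite_of_card_ne_zero (by rw [card_two]; norm_num)
  have hle : Nat.card L ≤ Nat.card MG := by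
    refine (Nat.card_le_card_of_surjective pL hp').trans ?_
    rw [Nat.card_prod, Nat.card_fin, card_two, card_MG]
  have hsur : Function.Surjective (σ.comp L.subtype) := by
    rintro ⟨_, v, a, rfl⟩
    refine ⟨⟨mv E 11 v * s a, v, a, rfl⟩, Subtype.ext ?_⟩
    show (σ (mv E 11 v * s a) : PG) = eG v * kG a
    rw [map_mul, Subgroup.coe_mul, map_mv hE 11 le_rfl, hs]
    rfl
  have hbij : Function.Bijective (σ.comp L.subtype) := hsur.bijective_of_nat_card_le hle
  intro hker
  have hcl : commutator Γ ≤ L := by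
    rw [commutator_def, Subgroup.commutator_le]
    intro x _ y _
    obtain ⟨a, ha⟩ := hsur (σ x)
    obtain ⟨b, hb⟩ := hsur (σ y)
    have e : ∀ (u : Γ) (c : L), σ (c : Γ) = σ u → ∃ z ∈ Subgroup.center Γ, u = (c : Γ) * z :=
      fun u c h => ⟨(c : Γ)⁻¹ * u, hc (by rw [MonoidHom.mem_ker, map_mul, map_inv, h, inv_mul_cancel]),
        (mul_inv_cancel_left _ _).symm⟩
    obtain ⟨z, hz, rfl⟩ := e x a ha
    obtain ⟨t, ht, rfl⟩ := e y b hb
    rw [comm_central hz ht]
    exact mul_mem (mul_mem (mul_mem a.2 b.2) (inv_mem a.2)) (inv_mem b.2)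
  have hone : σ.ker = ⊥ := (Subgroup.eq_bot_iff_forall _).2 fun z hz => by
    have := @hbij.1 ⟨z, hcl (hker hz)⟩ 1 (by
      show σ z = σ ((1 : L) : Γ)
      rw [MonoidHom.mem_ker.1 hz, L.coe_one, map_one])
    exact congrArg Subtype.val this
  rw [hone, Subgroup.card_bot] at hcard
  exact hp.ne_one hcard.symm

theorem exists_lift_bits (hs' : Function.Surjective σ) :
    ∃ E : ℕ → Γ, ∀ i < 11, (σ (E i) : PG) = eG (2 ^ i) :=
  ⟨fun i => Function.surjInv hs' ⟨eG (2 ^ i), 2 ^ i, 1, by rw [map_one, mul_one]⟩,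
    fun i _ => by rw [Function.surjInv_eq hs']⟩

theorem ker_sq {hp2 : Nat.card σ.ker = 2} {z : Γ} (hz : z ∈ σ.ker) : z * z = 1 := by
  have h : (⟨z, hz⟩ : σ.ker) ^ 2 = 1 := hp2 ▸ pow_card_eq_one'
  rw [pow_two] at h
  exact congrArg Subtype.val h

theorem sq_mem {E : ℕ → Γ} (hE : ∀ i < 11, (σ (E i) : PG) = eG (2 ^ i)) {i j : ℕ} (hi : i < 11)
    (hj : j < 11) : E i * E i ∈ σ.ker ∧ ⁅E i, E j⁆ ∈ σ.ker := by
  constructor <;> rw [MonoidHom.mem_ker]
  · refine Subtype.ext ?_
    rw [map_mul, Subgroup.coe_mul, hE i hi, eG_mul, Nat.xor_self, eG_zero]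
    rfl
  · refine Subtype.ext ?_
    rw [commutatorElement_def, map_mul, map_mul, map_mul, map_inv, map_inv, Subgroup.coe_mul,
      Subgroup.coe_mul, Subgroup.coe_mul, Subgroup.coe_inv, Subgroup.coe_inv, hE i hi, hE j hj,
      eG_inv, eG_inv, eG_mul, eG_mul, eG_mul, Nat.xor_assoc (2 ^ i), Nat.xor_comm (2 ^ j),
      ← Nat.xor_assoc, Nat.xor_self, Nat.zero_xor, Nat.xor_self, eG_zero]
    rfl

theorem lifts_odd [Finite Γ] {p : ℕ} (hp : p.Prime) (h2 : p ≠ 2) (hs' : Function.Surjective σ)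
    (hc : σ.ker ≤ Subgroup.center Γ) (hcard : Nat.card σ.ker = p) (s : TwoGroup →* Γ)
    (hs : ∀ a, σ (s a) = kM a) :
    ¬ σ.ker ≤ commutator Γ := by
  obtain ⟨L0, hL⟩ := exists_lift_bits hs'
  have hpow : ∀ z ∈ σ.ker, z ^ p = 1 := fun z hz => by
    have h : (⟨z, hz⟩ : σ.ker) ^ p = 1 := hcard ▸ pow_card_eq_one'
    exact congrArg Subtype.val h
  have hsmall : ∀ z ∈ σ.ker, z * z = 1 → z = 1 := fun z hz h => by
    have hg := pow_gcd_eq_one.2 ⟨(pow_two z).trans h, hpow z hz⟩
    rwa [((Nat.coprime_primes Nat.prime_two hp).2 (Ne.symm h2)).gcd_eq_one, pow_one] at hg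
  have hodd : p % 2 = 1 := (hp.eq_two_or_odd).resolve_left h2
  let E : ℕ → Γ := fun i => L0 i ^ p
  have hE : ∀ i < 11, (σ (E i) : PG) = eG (2 ^ i) := fun i hi => by
    show (σ (L0 i ^ p) : PG) = _
    rw [map_pow, Subgroup.coe_pow, hL i hi, ← Nat.div_add_mod p 2, hodd, pow_succ, pow_mul, pow_two,
      eG_mul, Nat.xor_self, eG_zero, one_pow, one_mul]
  have hsq : ∀ i < 11, E i * E i = 1 := fun i hi => by
    show L0 i ^ p * L0 i ^ p = 1
    rw [← (Commute.refl (L0 i)).mul_pow]
    exact hpow _ (sq_mem hL hi hi).1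
  have hcm : ∀ i < 11, ∀ j < 11, Commute (E i) (E j) := by
    intro i hi j hj
    have hz := (sq_mem hE hi hj).2
    refine commutatorElement_eq_one_iff_mul_comm.1 (hsmall _ hz ?_)
    rw [← comm_mul_left (hc hz), hsq i hi, commutatorElement_one_left]
  refine not_le_of_lift hp hs' hc hcard s hs E hE hcm hsq fun g hg i hi => ?_
  have hk := act_lift hs hE hg hi
  set m := mv E 11 (act g i)
  set c := s (el g) * E i * (s (el g))⁻¹ with hcdef
  have hcc : c * c = 1 := by
    rw [hcdef, show ∀ a b : Γ, a * b * a⁻¹ * (a * b * a⁻¹) = a * (b * b) * a⁻¹ from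
      fun a b => by group, hsq i hi, mul_one, mul_inv_cancel]
  have hmm : m * m = 1 := by rw [mv_xor 11 hcm hsq, Nat.xor_self, mv_zero]
  have hz := Subgroup.mem_center_iff.1 (hc hk)
  have : m⁻¹ * c = 1 := hsmall _ hk (by
    calc m⁻¹ * c * (m⁻¹ * c) = m⁻¹ * ((m⁻¹ * c) * c) := by rw [mul_assoc, hz c]
      _ = 1 := by rw [mul_assoc, hcc, mul_one, ← mul_inv_rev, hmm, inv_one])
  exact (inv_mul_eq_one.1 this).symm

theorem comm_bit {E : ℕ → Γ} (hcl : ∀ i < 11, ∀ j < 11, ⁅E i, E j⁆ ∈ Subgroup.center Γ)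
    (hself : ∀ i < 11, ∀ j < 11, i < j → ⁅E i, E j⁆ = ⁅E j, E i⁆)
    {f : ℕ → Γ} (hf : ∀ a < 11, ∀ b < a, f (pid a b) = ⁅E a, E b⁆)
    (hfc : ∀ i < 55, ∀ j < 55, Commute (f i) (f j)) (hfs : ∀ i < 55, f i * f i = 1) {b : ℕ}
    (hb : b < 11) : ∀ n ≤ 11, ∀ v, ⁅mv E n v, E b⁆ = mv f 55 (rowMask n v b)
  | 0, _, _ => by simp [mv, rowMask, mv_zero]
  | n + 1, hn, v => by
    rw [mv, rowMask, ← mv_xor 55 hfc hfs, ← comm_bit hcl hself hf hfc hfs hb n (by omega) v]
    cases v.testBit n
    · simp [mv_zero]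
    · simp only [cond_true, Bool.true_and]
      rw [comm_mul_left (hcl n (by omega) b hb)]
      congr 1
      rcases Nat.lt_trichotomy n b with h | h | h
      · rw [show Nat.beq n b = false from beq_false_of_ne h.ne, Bool.not_false, cond_true,
          mv_two_pow f ((pid_lt hb h).1), (pid_lt hb h).2, hself n (by omega) b hb h,
          hf b hb n h]
      · subst h
        rw [show Nat.beq n n = true from Nat.beq_refl n, Bool.not_true, cond_false, mv_zero,
          commutatorElement_self]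
      · rw [show Nat.beq n b = false from beq_false_of_ne h.ne', Bool.not_false, cond_true,
          mv_two_pow f ((pid_lt' (by omega) h).1), hf n (by omega) b h]
where
  beq_false_of_ne {a b : ℕ} (h : a ≠ b) : Nat.beq a b = false := by
    cases he : Nat.beq a b
    · rfl
    · exact absurd (Nat.eq_of_beq_eq_true he) h
  pid_lt' {a b : ℕ} (ha : a < 11) (h : b < a) : pid a b < 55 ∧ pid b a = pid a b := by
    have h1 := List.all_eq_true.1 (List.all_eq_true.1 pairs_ok.2.1 a (List.mem_range.2 ha)) b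
      (List.mem_range.2 h)
    simp only [Bool.and_eq_true, Nat.blt_eq] at h1
    exact ⟨h1.1.1.1, Nat.eq_of_beq_eq_true h1.1.1.2⟩
  pid_lt {a b : ℕ} (ha : a < 11) (h : b < a) : pid b a < 55 ∧ pid b a = pid a b := by
    obtain ⟨h1, h2⟩ := pid_lt' ha h
    exact ⟨h2 ▸ h1, h2⟩

theorem comm_masks {E : ℕ → Γ} (hcl : ∀ i < 11, ∀ j < 11, ⁅E i, E j⁆ ∈ Subgroup.center Γ)
    (hself : ∀ i < 11, ∀ j < 11, i < j → ⁅E i, E j⁆ = ⁅E j, E i⁆)
    {f : ℕ → Γ} (hf : ∀ a < 11, ∀ b < a, f (pid a b) = ⁅E a, E b⁆)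
    (hfZ : ∀ i < 55, f i ∈ Subgroup.center Γ) (hfs : ∀ i < 55, f i * f i = 1) (v : ℕ) :
    ∀ n ≤ 11, ∀ w, ⁅mv E 11 v, mv E n w⁆ = mv f 55 (pairMask n v w)
  | 0, _, _ => by simp [mv, pairMask, mv_zero]
  | n + 1, hn, w => by
    have hfc : ∀ i < 55, ∀ j < 55, Commute (f i) (f j) := fun i hi j _ =>
      (Subgroup.mem_center_iff.1 (hfZ i hi) (f j)).symm
    have hb := comm_bit hcl hself hf hfc hfs (b := n) (by omega) 11 le_rfl v
    show ⁅mv E 11 v, mv E n w * cond (w.testBit n) (E n) 1⁆ = _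
    rw [pairMask, ← mv_xor 55 hfc hfs, ← comm_masks hcl hself hf hfZ hfs v n (by omega) w]
    cases w.testBit n
    · simp [mv_zero]
    · simp only [cond_true]
      rw [← hb, comm_mul_right (hb ▸ mv_mem 55 hfZ _)]

theorem lifts_two [Finite Γ] (hs' : Function.Surjective σ) (hc : σ.ker ≤ Subgroup.center Γ)
    (hcard : Nat.card σ.ker = 2) (s : TwoGroup →* Γ) (hs : ∀ a, σ (s a) = kM a) :
    ¬ σ.ker ≤ commutator Γ := by
  obtain ⟨E, hE⟩ := exists_lift_bits hs'
  have hz2 : ∀ z ∈ σ.ker, z * z = 1 := fun z hz => ker_sq (hp2 := hcard) hz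
  have hself : ∀ i < 11, ∀ j < 11, i < j → ⁅E i, E j⁆ = ⁅E j, E i⁆ := fun i hi j hj _ => by
    rw [← commutatorElement_inv (E i) (E j)]
    exact (inv_eq_of_mul_eq_one_right (hz2 _ (sq_mem hE hi hj).2)).symm
  have hcl : ∀ i < 11, ∀ j < 11, ⁅E i, E j⁆ ∈ Subgroup.center Γ :=
    fun i hi j hj => hc (sq_mem hE hi hj).2
  -- the commutators
  let f : ℕ → Γ := fun j => ⁅E (pairT.getD j (0, 0)).1, E (pairT.getD j (0, 0)).2⁆
  have hfk : ∀ j < 55, f j ∈ σ.ker := fun j hj => by
    have h := List.all_eq_true.1 pairs_ok.1 j (List.mem_range.2 hj)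
    simp only [Bool.and_eq_true, Nat.blt_eq] at h
    exact (sq_mem hE h.1.2 (h.1.1.trans h.1.2)).2
  have hfs : ∀ j < 55, f j * f j = 1 := fun j hj => hz2 _ (hfk j hj)
  have hfc : ∀ i < 55, ∀ j < 55, Commute (f i) (f j) := fun i hi j _ =>
    (Subgroup.mem_center_iff.1 (hc (hfk i hi)) (f j)).symm
  have hfp : ∀ a < 11, ∀ b < a, f (pid a b) = ⁅E a, E b⁆ := fun a ha b hb => by
    have h := List.all_eq_true.1 (List.all_eq_true.1 pairs_ok.2.1 a (List.mem_range.2 ha)) b
      (List.mem_range.2 hb)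
    simp only [Bool.and_eq_true] at h
    show ⁅E _, E _⁆ = _
    rw [Nat.eq_of_beq_eq_true h.1.2, Nat.eq_of_beq_eq_true h.2]
  have hB : ∀ e ∈ eqsB, mv f 55 e = 1 := by
    intro e he
    obtain ⟨g, hg, he⟩ := List.mem_flatMap.1 he
    obtain ⟨⟨a, b⟩, hab, rfl⟩ := List.mem_map.1 he
    obtain ⟨j, hj, hje⟩ := List.getElem_of_mem hab
    have h := List.all_eq_true.1 pairs_ok.1 j (List.mem_range.2 (pairs_ok.2.2 ▸ hj))
    rw [List.getD_eq_getElem _ _ hj, hje] at h
    simp only [Bool.and_eq_true, Nat.blt_eq] at h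
    have hg4 : g < 4 := by
      simp only [List.mem_cons, List.not_mem_nil, or_false] at hg
      omega
    have ha : a < 11 := h.1.2
    have hb : b < a := h.1.1
    rw [← mv_xor 55 hfc hfs, ← comm_masks hcl hself hfp (fun i hi => hc (hfk i hi)) hfs _ 11 le_rfl,
      mv_two_pow f ((comm_bit.pid_lt' ha hb).1), hfp a ha b hb]
    have key : ∀ i < 11, ∃ z ∈ σ.ker, s (el g) * E i * (s (el g))⁻¹ = mv E 11 (act g i) * z :=
      fun i hi => ⟨_, act_lift hs hE hg4 hi, (mul_inv_cancel_left _ _).symm⟩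
    obtain ⟨za, hza, ea⟩ := key a ha
    obtain ⟨zb, hzb, eb⟩ := key b (hb.trans ha)
    have h1 : ⁅mv E 11 (act g a), mv E 11 (act g b)⁆ = ⁅E a, E b⁆ := by
      rw [← comm_central (hc hza) (hc hzb), ← ea, ← eb]
      calc ⁅s (el g) * E a * (s (el g))⁻¹, s (el g) * E b * (s (el g))⁻¹⁆
          = s (el g) * ⁅E a, E b⁆ * (s (el g))⁻¹ := by simp [commutatorElement_def, mul_assoc]
        _ = ⁅E a, E b⁆ := by
          rw [Subgroup.mem_center_iff.1 (hcl a ha b (hb.trans ha)) (s (el g)), mul_inv_cancel_right]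
    rw [h1]
    exact hz2 _ (sq_mem hE ha (hb.trans ha)).2
  have hcm : ∀ i < 11, ∀ j < 11, Commute (E i) (E j) := by
    have hlow : ∀ a < 11, ∀ b < a, ⁅E a, E b⁆ = 1 := fun a ha b hb => by
      have hp' := (comm_bit.pid_lt' ha hb).1
      rw [← hfp a ha b hb, ← mv_two_pow f hp']
      exact eq_one_of_comb hfc hfs eqsB hB (List.all_eq_true.1 combB_ok _ (List.mem_range.2 hp'))
    intro i hi j hj
    rcases Nat.lt_trichotomy i j with h | h | h
    · exact (commutatorElement_eq_one_iff_mul_comm.1 (hlow j hj i h)).symm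
    · subst h; exact Commute.refl _
    · exact commutatorElement_eq_one_iff_mul_comm.1 (hlow i hi j h)
  -- the squares
  let q : ℕ → Γ := fun i => E i * E i
  have hqs : ∀ i < 11, q i * q i = 1 := fun i hi => hz2 _ (sq_mem hE hi hi).1
  have hqc : ∀ i < 11, ∀ j < 11, Commute (q i) (q j) := fun i hi j _ =>
    (Subgroup.mem_center_iff.1 (hc (sq_mem hE hi hi).1) (q j)).symm
  have hsqv : ∀ n ≤ 11, ∀ v, mv E n v * mv E n v = mv q n v := by
    intro n
    induction n with
    | zero => intro _ v; simp [mv]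
    | succ n ih =>
      intro hn v
      have hcn : Commute (E n) (mv E n v) :=
        mv_commute n (fun i hi => hcm n (by omega) i (by omega)) v
      rw [mv, mv, ← ih (by omega) v]
      cases v.testBit n
      · simp
      · simp only [cond_true]
        rw [mul_assoc, ← mul_assoc (E n), hcn.eq]
        simp [q, mul_assoc]
  have hQ : ∀ e ∈ eqsQ, mv q 11 e = 1 := by
    intro e he
    obtain ⟨g, hg, he⟩ := List.mem_flatMap.1 he
    obtain ⟨i, hi, rfl⟩ := List.mem_map.1 he
    rw [List.mem_range] at hi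
    have hg4 : g < 4 := by
      simp only [List.mem_cons, List.not_mem_nil, or_false] at hg
      omega
    rw [← mv_xor 11 hqc hqs, ← hsqv 11 le_rfl, mv_two_pow q hi]
    obtain ⟨z, hz, e1⟩ : ∃ z ∈ σ.ker, s (el g) * E i * (s (el g))⁻¹ = mv E 11 (act g i) * z :=
      ⟨_, act_lift hs hE hg4 hi, (mul_inv_cancel_left _ _).symm⟩
    have h1 : mv E 11 (act g i) * mv E 11 (act g i) = E i * E i := by
      have hzc := Subgroup.mem_center_iff.1 (hc hz)
      calc mv E 11 (act g i) * mv E 11 (act g i)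
          = mv E 11 (act g i) * mv E 11 (act g i) * (z * z) := by rw [hz2 z hz, mul_one]
        _ = (mv E 11 (act g i) * z) * (mv E 11 (act g i) * z) := by
          rw [mul_assoc, mul_assoc, ← mul_assoc z, ← hzc (mv E 11 (act g i)), mul_assoc]
        _ = s (el g) * (E i * E i) * (s (el g))⁻¹ := by rw [← e1]; group
        _ = E i * E i := by
          rw [Subgroup.mem_center_iff.1 (hc (sq_mem hE hi hi).1) (s (el g)), mul_inv_cancel_right]
    rw [h1]
    exact hz2 _ (sq_mem hE hi hi).1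
  have hsq : ∀ i < 11, E i * E i = 1 := fun i hi => by
    show q i = 1
    rw [← mv_two_pow q hi]
    exact eq_one_of_comb hqc hqs eqsQ hQ (List.all_eq_true.1 combQ_ok i (List.mem_range.2 hi))
  -- the twists
  let c : ℕ → Γ := fun t =>
    (mv E 11 (act (t / 11) (t % 11)))⁻¹ * (s (el (t / 11)) * E (t % 11) * (s (el (t / 11)))⁻¹)
  have hck : ∀ t < 44, c t ∈ σ.ker := fun t ht =>
    act_lift hs hE (by omega) (Nat.mod_lt _ (by norm_num))
  have hcs : ∀ t < 44, c t * c t = 1 := fun t ht => hz2 _ (hck t ht)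
  have hcz : ∀ n, n < 44 + 1 → ∀ v x, x * mv c n v = mv c n v * x := fun n hn v x =>
    Subgroup.mem_center_iff.1 (mv_mem n (fun t ht => hc (hck t (by omega))) v) x
  have hcc : ∀ i < 44, ∀ j < 44, Commute (c i) (c j) := fun i hi j _ =>
    (Subgroup.mem_center_iff.1 (hc (hck i hi)) (c j)).symm
  have hci : ∀ g < 4, ∀ i < 11, s (el g) * E i * (s (el g))⁻¹ =
      mv E 11 (act g i) * c (11 * g + i) := by
    intro g hg i hi
    show _ = _ * ((mv E 11 _)⁻¹ * _)
    rw [show (11 * g + i) / 11 = g by omega, show (11 * g + i) % 11 = i by omega,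
      mul_inv_cancel_left]
  have hstep : ∀ g < 4, ∀ n ≤ 11, ∀ u, s (el g) * mv E n u * (s (el g))⁻¹ =
      mv E 11 (linMask g n u) * mv c 44 (twistMask g n u) := by
    intro g hg n
    induction n with
    | zero => intro _ u; simp [mv, linMask, twistMask, mv_zero]
    | succ n ih =>
      intro hn u
      rw [mv, linMask, twistMask, ← mv_xor 11 hcm hsq, ← mv_xor 44 hcc hcs]
      cases u.testBit n
      · simpa [mv_zero] using ih (by omega) u
      · simp only [cond_true]
        rw [mv_two_pow c (show 11 * g + n < 44 by omega)]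
        calc s (el g) * (mv E n u * E n) * (s (el g))⁻¹
            = (s (el g) * mv E n u * (s (el g))⁻¹) * (s (el g) * E n * (s (el g))⁻¹) := by group
          _ = mv E 11 (linMask g n u) * mv c 44 (twistMask g n u) *
              (mv E 11 (act g n) * c (11 * g + n)) := by rw [ih (by omega), hci g hg n (by omega)]
          _ = _ := by
            rw [mul_assoc, ← mul_assoc (mv c 44 _), ← hcz 44 (by omega) _ (mv E 11 (act g n))]
            simp [mul_assoc]
  have hrun : ∀ w : List ℕ, (∀ g ∈ w, g < 4) → ∀ u,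
      (w.map (s ∘ el)).prod * mv E 11 u * ((w.map (s ∘ el)).prod)⁻¹ =
        mv E 11 (runWord w u).1 * mv c 44 (runWord w u).2 := by
    intro w
    induction w with
    | nil => intro _ u; simp [runWord, mv_zero]
    | cons g w ih =>
      intro hw u
      have h1 := ih (fun a ha => hw a (List.mem_cons_of_mem _ ha)) u
      rw [runWord, List.map_cons, List.prod_cons, ← mv_xor 44 hcc hcs]
      set P := (w.map (s ∘ el)).prod
      set A := (s ∘ el) g with hA
      calc A * P * mv E 11 u * (A * P)⁻¹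
          = A * (P * mv E 11 u * P⁻¹) * A⁻¹ := by group
        _ = A * mv E 11 (runWord w u).1 * A⁻¹ * mv c 44 (runWord w u).2 := by
          rw [h1, ← mul_assoc, mul_assoc _ _ A⁻¹, ← hcz 44 (by omega) _ A⁻¹]
          simp [mul_assoc]
        _ = mv E 11 (linMask g 11 (runWord w u).1) * mv c 44 (twistMask g 11 (runWord w u).1) *
            mv c 44 (runWord w u).2 := by
          rw [hA, Function.comp_apply, hstep g (hw g (by simp)) 11 le_rfl]
        _ = _ := by
          rw [mul_assoc, hcz 44 (by omega) _ (mv c 44 (twistMask g 11 (runWord w u).1))]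
  have hC : ∀ e ∈ eqsC, mv c 44 e = 1 := by
    intro e he
    obtain ⟨w, hw, he⟩ := List.mem_flatMap.1 he
    obtain ⟨i, hi, rfl⟩ := List.mem_map.1 he
    have hlt : ∀ g ∈ w, g < 4 := fun g hg => by
      simpa [Nat.blt_eq] using List.all_eq_true.1 (List.all_eq_true.1 rels_lt w hw) g hg
    have h := hrun w hlt (2 ^ i)
    rw [Nat.eq_of_beq_eq_true (List.all_eq_true.1 (List.all_eq_true.1 fixed_ok w hw) i hi),
      ← List.map_map, ← map_list_prod, relWords_el w hw, map_one, inv_one, mul_one, one_mul] at h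
    exact (mul_eq_left.1 h.symm)
  let E' : ℕ → Γ := fun i => E i * mv c 44 (adjT.getD i 0)
  have hE' : ∀ i < 11, (σ (E' i) : PG) = eG (2 ^ i) := fun i hi => by
    show (σ (_ * _) : PG) = _
    rw [map_mul, MonoidHom.mem_ker.1 (mv_mem 44 hck _), mul_one, hE i hi]
  have hcm' : ∀ i < 11, ∀ j < 11, Commute (E' i) (E' j) := fun i hi j hj =>
    Commute.mul_left (Commute.mul_right (hcm i hi j hj) (hcz 44 (by omega) _ (E i)))
      ((hcz 44 (by omega) _ (E' j)).symm)
  have hsq' : ∀ i < 11, E' i * E' i = 1 := fun i hi => by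
    have h := (show Commute (E i) (mv c 44 (adjT.getD i 0)) from hcz 44 (by omega) _ _)
    show E i * _ * (E i * _) = 1
    rw [h.symm.mul_mul_mul_comm, hsq i hi, mv_xor 44 hcc hcs, Nat.xor_self, mv_zero, mul_one]
  have hadj : ∀ n ≤ 11, ∀ v, mv E' n v = mv E n v * mv c 44 (adjMask n v) := by
    intro n
    induction n with
    | zero => intro _ v; simp [mv, adjMask, mv_zero]
    | succ n ih =>
      intro hn v
      rw [mv, mv, adjMask, ← mv_xor 44 hcc hcs, ih (by omega) v]
      cases v.testBit n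
      · simp [mv_zero]
      · simp only [cond_true, E']
        rw [mul_assoc, ← mul_assoc (mv c 44 _), ← hcz 44 (by omega) _ (E n)]
        simp [mul_assoc]
  refine not_le_of_lift Nat.prime_two hs' hc hcard s hs E' hE' hcm' hsq' fun g hg i hi => ?_
  have hk := eq_one_of_comb hcc hcs eqsC hC
    (List.all_eq_true.1 (List.all_eq_true.1 combC_ok g (List.mem_range.2 hg)) i (List.mem_range.2 hi))
  rw [← mv_xor 44 hcc hcs, ← mv_xor 44 hcc hcs, mv_two_pow c (show 11 * g + i < 44 by omega)] at hk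
  set d := mv c 44 (adjT.getD i 0) with hd
  set m := mv c 44 (adjMask 11 (act g i))
  have hm : c (11 * g + i) * d = m := by
    have hmm : m * m = 1 := by rw [mv_xor 44 hcc hcs, Nat.xor_self, mv_zero]
    exact mul_right_cancel (hk.trans hmm.symm)
  calc s (el g) * E' i * (s (el g))⁻¹ = s (el g) * E i * (s (el g))⁻¹ * d := by
        show s (el g) * (E i * d) * _ = _
        rw [hd, mul_assoc, mul_assoc (E i), ← hcz 44 (by omega) _ (s (el g))⁻¹]
        simp [mul_assoc]
    _ = mv E' 11 (act g i) := by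
      rw [hci g hg i hi, hadj 11 le_rfl, mul_assoc, hm]

/-- The subgroup has no stem extensions of prime degree. -/
theorem noStem_MG (p : ℕ) (hp : p.Prime) : NoStem p MG := by
  intro Γ _ _ σ hs hc hcard
  obtain ⟨s, hsec⟩ := exists_section hp hs hc hcard
  by_cases h2 : p = 2
  · subst h2; exact lifts_two hs hc hcard s hsec
  · exact lifts_odd hp h2 hs hc hcard s hsec

end Cfsg.Lib.J4Mult
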