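import Cfsg.Agent.Lib.J4Real.Order
import Cfsg.Agent.Lib.J4Mult.Mask
import Cfsg.Agent.Lib.Schur.StemIndex

/-!
# No stem extensions of degree eleven
-/

set_option autoImplicit false
set_option maxRecDepth 20000

open scoped commutatorElement

namespace Cfsg.Lib.J4Mult

open Cfsg.Lib.Concrete (NoStem)

theorem comm_pow_left {Γ : Type*} [Group Γ] {x y : Γ} (h : ⁅x, y⁆ ∈ Subgroup.center Γ) :
    ∀ n : ℕ, ⁅x ^ n, y⁆ = ⁅x, y⁆ ^ n
  | 0 => by simp
  | n + 1 => by rw [pow_succ, comm_mul_left h, comm_pow_left h n, pow_succ]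

theorem comm_pow_right {Γ : Type*} [Group Γ] {x y : Γ} (h : ⁅x, y⁆ ∈ Subgroup.center Γ) :
    ∀ n : ℕ, ⁅x, y ^ n⁆ = ⁅x, y⁆ ^ n
  | 0 => by simp
  | n + 1 => by rw [pow_succ, comm_mul_right h, comm_pow_right h n, pow_succ]

theorem pow_mod_ne {Γ : Type*} [Group Γ] {u : Γ} {p n : ℕ} (hp : p.Prime) (hu : u ^ p = 1)
    (h : u ^ n = u) (hn : n % p ≠ 1) : u = 1 := by
  by_contra hne
  haveI := Fact.mk hp
  have ho : orderOf u = p := orderOf_eq_prime hu hne
  have := congrArg (fun x => x) h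
  conv_rhs at this => rw [← pow_one u]
  rw [pow_eq_pow_iff_modEq, ho, Nat.ModEq, Nat.mod_eq_of_lt hp.one_lt] at this
  exact hn this

/-- A group of index prime to `p` that is a Heisenberg group moved by an element forbids stem
extensions of degree `p`. -/
theorem noStem_of_heisenberg {G : Type} [Group G] [Finite G] {p : ℕ} (hp : p.Prime) (z c g d : G)
    {e m a k j : ℕ} (hcz : c * z = z * c) (hcg : c * g = g * c) (hgz : g * z = c ^ e * z * g)
    (hg : g ^ p = 1) (hc : c ^ p = 1) (hce : c ^ e ≠ 1) (hdc : d * c = c ^ m * d)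
    (hdz : d * z = z ^ a * d) (hdg : d * g = c ^ k * g ^ j * d) (hma : m * a % p ≠ 1)
    (hmj : m * j % p ≠ 1) (hidx : ¬ p ∣ (Subgroup.closure {z, c, g}).index) : NoStem p G := by
  intro Γ _ _ σ hs hcen hcard hle
  have hpow : ∀ x ∈ σ.ker, x ^ p = 1 := fun x hx => by
    have h : (⟨x, hx⟩ : σ.ker) ^ p = 1 := hcard ▸ pow_card_eq_one'
    exact congrArg Subtype.val h
  obtain ⟨Z', rfl⟩ := hs z
  obtain ⟨C, rfl⟩ := hs c
  obtain ⟨G', rfl⟩ := hs g
  obtain ⟨D, rfl⟩ := hs d
  have hlift : ∀ x y : Γ, σ x = σ y → ∃ t ∈ σ.ker, x = y * t := fun x y h =>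
    ⟨y⁻¹ * x, by rw [MonoidHom.mem_ker, map_mul, map_inv, h, inv_mul_cancel],
      (mul_inv_cancel_left _ _).symm⟩
  have hk0 : ∀ x y : Γ, σ x * σ y = σ y * σ x → ⁅x, y⁆ ∈ σ.ker := fun x y h => by
    rw [MonoidHom.mem_ker, map_commutatorElement, commutatorElement_eq_one_iff_mul_comm.2 h]
  have hconj : ∀ (x y : Γ), σ D * σ x = σ y * σ D → ∃ t ∈ σ.ker, D * x * D⁻¹ = y * t := fun x y h =>
    hlift _ _ (by rw [map_mul, map_mul, map_inv, h, mul_inv_cancel_right])
  have hu := hk0 C Z' hcz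
  have hv := hk0 C G' hcg
  obtain ⟨t1, ht1, e1⟩ := hconj C (C ^ m) (by rw [map_pow]; exact hdc)
  obtain ⟨t2, ht2, e2⟩ := hconj Z' (Z' ^ a) (by rw [map_pow]; exact hdz)
  obtain ⟨t3, ht3, e3⟩ := hconj G' (C ^ k * G' ^ j) (by rw [map_mul, map_pow, map_pow]; exact hdg)
  have hfix : ∀ x y : Γ, ⁅x, y⁆ ∈ σ.ker → ⁅D * x * D⁻¹, D * y * D⁻¹⁆ = ⁅x, y⁆ := fun x y h => by
    rw [show ⁅D * x * D⁻¹, D * y * D⁻¹⁆ = D * ⁅x, y⁆ * D⁻¹ by simp [commutatorElement_def, mul_assoc],
      Subgroup.mem_center_iff.1 (hcen h) D, mul_inv_cancel_right]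
  have hu1 : ⁅C, Z'⁆ = 1 := by
    refine pow_mod_ne hp (hpow _ hu) ?_ hma
    have h := hfix C Z' hu
    rw [e1, e2, comm_central (hcen ht1) (hcen ht2), comm_pow_left ?_ m,
      comm_pow_right (hcen hu) a] at h
    · rw [← pow_mul, mul_comm a m] at h
      exact h
    · rw [comm_pow_right (hcen hu) a]
      exact pow_mem (hcen hu) a
  have hv1 : ⁅C, G'⁆ = 1 := by
    refine pow_mod_ne hp (hpow _ hv) ?_ hmj
    have h := hfix C G' hv
    have hCC : ⁅C, C ^ k * G' ^ j⁆ = ⁅C, G'⁆ ^ j := by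
      rw [comm_mul_right (by rw [comm_pow_right (hcen hv) j]; exact pow_mem (hcen hv) j),
        comm_pow_right (hcen hv) j,
        commutatorElement_eq_one_iff_mul_comm.2 (Commute.self_pow C k).eq, one_mul]
    rw [e1, e3, comm_central (hcen ht1) (hcen ht3), comm_pow_left ?_ m, hCC] at h
    · rw [← pow_mul, mul_comm j m] at h
      exact h
    · rw [hCC]
      exact pow_mem (hcen hv) j
  have cz : Commute C Z' := commutatorElement_eq_one_iff_mul_comm.1 hu1
  have cg : Commute C G' := commutatorElement_eq_one_iff_mul_comm.1 hv1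
  set w := ⁅G', Z'⁆ with hwdef
  have hw : σ w = σ C ^ e := by
    rw [hwdef, map_commutatorElement, commutatorElement_def, hgz]
    group
  obtain ⟨t, ht, hwt⟩ := hlift w (C ^ e) (by rw [hw, map_pow])
  have hwc : ∀ x : Γ, Commute C x → Commute w x := fun x hx => by
    rw [hwt]
    exact (hx.pow_left e).mul_left (Subgroup.mem_center_iff.1 (hcen ht) x).symm
  have hwG := hwc G' cg
  have hwp : w ^ p = 1 := by
    have hG : ∀ n : ℕ, G' ^ n * Z' = w ^ n * Z' * G' ^ n := by
      intro n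
      induction n with
      | zero => simp
      | succ n ih =>
        have e0 : G' * Z' = w * Z' * G' := by rw [hwdef, commutatorElement_def]; group
        rw [pow_succ', mul_assoc, ih, ← mul_assoc, ← mul_assoc,
          ← (hwG.pow_left n).eq, mul_assoc (w ^ n) G', e0, ← mul_assoc, ← mul_assoc,
          ← pow_succ, mul_assoc (w ^ (n + 1) * Z')]
    have h := hG p
    have hcp : G' ^ p ∈ Subgroup.center Γ := hcen (by rw [MonoidHom.mem_ker, map_pow, hg])
    rw [← Subgroup.mem_center_iff.1 hcp Z', mul_assoc] at h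
    exact (mul_eq_right.1 h.symm)
  set H := Subgroup.closure {σ Z', σ C, σ G'}
  set Ht := H.comap σ
  let S : Subgroup Γ := Subgroup.closure {Z', C, G'} ⊔ σ.ker
  have hS : Ht = S := by
    show H.comap σ = _
    rw [show H = (Subgroup.closure {Z', C, G'}).map σ by
      rw [MonoidHom.map_closure, Set.image_insert_eq, Set.image_pair], Subgroup.comap_map_eq]
  have hwS : ∀ x ∈ S, Commute w x := by
    intro x hx
    have hle : S ≤ Subgroup.centralizer {w} := by
      refine sup_le ((Subgroup.closure_le _).2 ?_) fun y hy => ?_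
      · rintro y (rfl | rfl | rfl) <;>
          rw [SetLike.mem_coe, Subgroup.mem_centralizer_singleton_iff]
        · exact (hwc _ cz).symm
        · exact (hwc _ (Commute.refl _)).symm
        · exact hwG.symm
      · rw [Subgroup.mem_centralizer_singleton_iff]
        exact (Subgroup.mem_center_iff.1 (hcen hy) w).symm
    exact (Subgroup.mem_centralizer_singleton_iff.1 (hle hx)).symm
  have hwHt : w ∈ Ht := by
    rw [hS]
    have m1 : ∀ y ∈ ({Z', C, G'} : Set Γ), y ∈ S := fun y hy =>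
      Subgroup.mem_sup_left (Subgroup.subset_closure hy)
    exact mul_mem (mul_mem (mul_mem (m1 _ (by simp)) (m1 _ (by simp))) (inv_mem (m1 _ (by simp))))
      (inv_mem (m1 _ (by simp)))
  let W : Subgroup Ht := Subgroup.zpowers ⟨w, hwHt⟩
  have hWc : W ≤ Subgroup.center Ht := by
    rw [Subgroup.zpowers_le, Subgroup.mem_center_iff]
    intro y
    exact Subtype.ext (hwS _ (hS ▸ y.2)).symm.eq
  haveI hWn : W.Normal := ⟨fun n hn y => by
    rw [Subgroup.mem_center_iff.1 (hWc hn) y, mul_inv_cancel_right]; exact hn⟩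
  -- the quotient by the commutator is abelian
  have hab : commutator Ht ≤ W := by
    let π := QuotientGroup.mk' W
    have hgen : ∀ x y : Γ, (hx : x ∈ Ht) → (hy : y ∈ Ht) → ⁅x, y⁆ ∈ Subgroup.zpowers w →
        Commute (π ⟨x, hx⟩) (π ⟨y, hy⟩) := by
      intro x y hx hy h
      refine commutatorElement_eq_one_iff_mul_comm.1 ?_
      rw [← map_commutatorElement, QuotientGroup.mk'_apply, QuotientGroup.eq_one_iff]
      obtain ⟨i, hi⟩ := Subgroup.mem_zpowers_iff.1 h
      exact ⟨i, Subtype.ext (by rw [Subgroup.coe_zpow]; exact hi)⟩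
    let T : Γ → Subgroup Γ := fun x =>
      { carrier := {y | ∃ hy : y ∈ Ht, ∀ hx : x ∈ Ht, Commute (π ⟨x, hx⟩) (π ⟨y, hy⟩)}
        one_mem' := ⟨one_mem _, fun hx => by
          rw [show (⟨1, one_mem _⟩ : Ht) = 1 from rfl, map_one]; exact Commute.one_right _⟩
        mul_mem' := fun {y y'} ⟨hy, h⟩ ⟨hy', h'⟩ => ⟨mul_mem hy hy', fun hx => by
          rw [show (⟨y * y', mul_mem hy hy'⟩ : Ht) = ⟨y, hy⟩ * ⟨y', hy'⟩ from rfl, map_mul]
          exact (h hx).mul_right (h' hx)⟩
        inv_mem' := fun {y} ⟨hy, h⟩ => ⟨inv_mem hy, fun hx => by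
          rw [show (⟨y⁻¹, inv_mem hy⟩ : Ht) = (⟨y, hy⟩ : Ht)⁻¹ from rfl, map_inv]
          exact (h hx).inv_right⟩ }
    have hmem : ∀ y ∈ ({Z', C, G'} : Set Γ), y ∈ Ht := fun y hy =>
      hS ▸ Subgroup.mem_sup_left (Subgroup.subset_closure hy)
    have hkerT : ∀ x, σ.ker ≤ T x := fun x y hy => ⟨hS ▸ Subgroup.mem_sup_right hy, fun hx =>
      hgen _ _ hx _ (by
        rw [commutatorElement_eq_one_iff_mul_comm.2 (Subgroup.mem_center_iff.1 (hcen hy) x)]
        exact one_mem _)⟩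
    have hbase : ∀ x ∈ ({Z', C, G'} : Set Γ), S ≤ T x := by
      intro x hx
      refine sup_le ((Subgroup.closure_le _).2 fun y hy => ⟨hmem y hy, fun hx' => ?_⟩) (hkerT x)
      refine hgen _ _ hx' (hmem y hy) ?_
      have hone : ∀ {u v : Γ}, Commute u v → ⁅u, v⁆ ∈ Subgroup.zpowers w := fun h => by
        rw [commutatorElement_eq_one_iff_mul_comm.2 h.eq]; exact one_mem _
      rcases hx with hx | hx | hx <;> rcases hy with hy | hy | hy <;> rw [hx, hy]
      · exact hone (Commute.refl _)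
      · exact hone cz.symm
      · rw [← commutatorElement_inv G' Z']; exact inv_mem (Subgroup.mem_zpowers _)
      · exact hone cz
      · exact hone (Commute.refl _)
      · exact hone cg
      · exact Subgroup.mem_zpowers _
      · exact hone cg.symm
      · exact hone (Commute.refl _)
    have hall : ∀ x ∈ Ht, S ≤ T x := by
      intro x hx y hy
      have hyHt : y ∈ Ht := hS ▸ hy
      refine ⟨hyHt, fun hx' => ?_⟩
      have hsub : S ≤ T y := by
        refine sup_le ((Subgroup.closure_le _).2 fun u hu => ?_) (hkerT y)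
        obtain ⟨hu', h⟩ := hbase u hu hy
        exact ⟨hmem u hu, fun _ => (h (hmem u hu)).symm⟩
      obtain ⟨_, h⟩ := hsub (show x ∈ S by rw [← hS]; exact hx)
      exact (h hyHt).symm
    rw [commutator_def, Subgroup.commutator_le]
    intro x _ y _
    obtain ⟨_, h⟩ := hall x x.2 (show (y : Γ) ∈ S by rw [← hS]; exact y.2)
    rw [← QuotientGroup.eq_one_iff, ← QuotientGroup.mk'_apply, map_commutatorElement]
    exact commutatorElement_eq_one_iff_mul_comm.2 (h x.2).eq
  have hkle : σ.ker ≤ Ht := fun x hx => by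
    show σ x ∈ H
    rw [MonoidHom.mem_ker.1 hx]; exact H.one_mem
  have hbot : σ.ker = ⊥ := (Subgroup.eq_bot_iff_forall _).2 fun x hx => by
    have hx1 : Abelianization.of (⟨x, hkle hx⟩ : Ht) ^ Ht.index = 1 :=
      Concrete.center_pow_index_eq_one Ht Abelianization.of (hcen hx) (hle hx) (hkle hx)
    have hp1 : Abelianization.of (⟨x, hkle hx⟩ : Ht) ^ p = 1 := by
      rw [← map_pow, show (⟨x, hkle hx⟩ : Ht) ^ p = 1 from Subtype.ext (by
        rw [Subgroup.coe_pow]; exact hpow x hx), map_one]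
    have hcop : Nat.Coprime p Ht.index := by
      rw [Subgroup.index_comap_of_surjective _ hs]
      exact hp.coprime_iff_not_dvd.2 hidx
    have h1 := pow_gcd_eq_one.2 ⟨hp1, hx1⟩
    rw [hcop.gcd_eq_one, pow_one, ← MonoidHom.mem_ker, Abelianization.ker_of] at h1
    obtain ⟨i, hi⟩ := hab h1
    have hi' : w ^ i = x := congrArg Subtype.val hi
    have h2 : (σ C ^ e) ^ i = 1 := by
      rw [← hw, ← map_zpow, hi', MonoidHom.mem_ker.1 hx]
    haveI := Fact.mk hp
    have ho : orderOf (σ C ^ e) = p :=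
      orderOf_eq_prime (by rw [← pow_mul, mul_comm, pow_mul, hc, one_pow]) hce
    have hd : (orderOf (σ C ^ e) : ℤ) ∣ i := orderOf_dvd_iff_zpow_eq_one.2 h2
    rw [ho] at hd
    obtain ⟨q, rfl⟩ := hd
    rw [← hi', zpow_mul, zpow_natCast, hwp, one_zpow]
  rw [hbot, Subgroup.card_bot] at hcard
  exact hp.ne_one hcard.symm

end Cfsg.Lib.J4Mult
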