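import Cfsg.Agent.Lib.J4Mult.Eleven

/-!
# No stem extensions of degree eleven of the group of permutations of vectors
-/

set_option autoImplicit false
set_option maxRecDepth 20000

open scoped commutatorElement

namespace Cfsg.Lib.J4Mult

open Cfsg.Lib.Concrete (NoStem)
open Cfsg.Lib.J4Real

/-- A word normalising the three elements of order eleven. -/
def normWord : List ℕ :=
  [6, 8, 9, 10, 11, 14] ++ [4, 3, 4, 3, 4, 3, 4, 4, 3, 4, 3, 4, 3, 4, 3, 4, 4, 3, 4, 3, 1, 0, 1,
    0, 1, 1, 0, 1, 0, 1, 0, 1, 0, 1, 1, 0, 1, 1, 0, 1]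

theorem norm_ok : (sameW (normWord ++ [18]) ([18, 18] ++ normWord) &&
    sameW (normWord ++ [17]) (List.replicate 8 17 ++ normWord) &&
    sameW (normWord ++ [19]) ([18, 18, 18, 19, 19, 19] ++ normWord)) = true := by decide +kernel

theorem card_elevens : 1331 ∣ Nat.card
    (Subgroup.closure ({jp 17, jp 18, jp 19} : Set (Equiv.Perm Vec))) := by
  have h := eleven_ok
  simp only [Bool.and_eq_true, List.all_eq_true, List.mem_range, Bool.not_eq_true'] at h
  obtain ⟨⟨⟨⟨⟨⟨⟨⟨⟨hz, hc⟩, hg⟩, hzc⟩, hgc⟩, hgz⟩, mz⟩, mc⟩, mg⟩, hne⟩ := h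
  haveI : Fact (Nat.Prime 11) := ⟨by norm_num⟩
  have hord : ∀ k, sameW (List.replicate 11 k) [] = true → moves [k] = true →
      orderOf (jp k) = 11 := by
    intro k h1 h2
    refine orderOf_eq_prime ?_ (by rw [← wp_single]; exact moves_ne h2)
    rw [← wp_nil, ← sameW_wp h1]
    rw [wp, List.map_replicate, List.prod_replicate]
  have ez := hord 17 hz mz
  have ec := hord 18 hc mc
  have eg := hord 19 hg mg
  have c1 : jp 17 * jp 18 = jp 18 * jp 17 := by simpa [wp_cons, wp_nil] using sameW_wp hzc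
  have c2 : jp 19 * jp 18 = jp 18 * jp 19 := by simpa [wp_cons, wp_nil] using sameW_wp hgc
  have c3 : jp 19 * jp 17 = jp 18 * (jp 18 * (jp 17 * jp 19)) := by
    simpa [wp_cons, wp_nil] using sameW_wp hgz
  let Z : Subgroup (Equiv.Perm Vec) := Subgroup.zpowers (jp 17)
  have hcZ : jp 18 ∉ Z := by
    intro hm
    obtain ⟨i, hi⟩ := ((isOfFinOrder_of_finite (jp 17)).mem_powers_iff_mem_zpowers.2 hm)
    have hs : seedVec < 2 ^ 112 := by
      have := seed_ok
      rw [Bool.and_eq_true, decide_eq_true_eq] at this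
      exact this.1
    have hmod : wp (List.replicate (i % 11) 17) = wp [18] := by
      rw [wp_single, ← hi]
      rw [wp, List.map_replicate, List.prod_replicate, ← ez, pow_mod_orderOf]
    have e := congrArg (fun p : Equiv.Perm Vec => (p ⟨seedVec, hs⟩).1) hmod
    simp only [wp_apply [18] (by simp), wp_apply (List.replicate (i % 11) 17)
      (fun g hg => by rw [List.eq_of_mem_replicate hg]; norm_num)] at e
    have h' := hne (i % 11) (Nat.mod_lt _ (by norm_num))
    rw [e, Nat.beq_refl] at h'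
    exact Bool.noConfusion h'
  let A2 : Subgroup (Equiv.Perm Vec) := Z ⊔ Subgroup.zpowers (jp 18)
  have hA2c : Nat.card A2 = 11 * 11 := by
    have := card_extend (H := Z) (x := jp 18) (p := 11) (by norm_num) ec hcZ (fun h hh => by
      obtain ⟨i, rfl⟩ := hh
      have hcm : Commute (jp 18) (jp 17 ^ i) := Commute.zpow_right c1.symm i
      rw [hcm.eq, mul_inv_cancel_right]
      exact ⟨i, rfl⟩)
    rwa [Nat.card_zpowers, ez] at this
  have h17 : jp 17 ∈ A2 := Subgroup.mem_sup_left (Subgroup.mem_zpowers _)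
  have h18 : jp 18 ∈ A2 := Subgroup.mem_sup_right (Subgroup.mem_zpowers _)
  have hgA : jp 19 ∉ A2 := by
    intro hm
    have hle : A2 ≤ Subgroup.centralizer {jp 17} := by
      refine sup_le ?_ ?_ <;> rw [Subgroup.zpowers_le, Subgroup.mem_centralizer_singleton_iff]
      exact c1.symm
    have hab := Subgroup.mem_centralizer_singleton_iff.1 (hle hm)
    rw [← hab, ← mul_assoc] at c3
    have h1 : jp 18 * jp 18 = 1 := mul_eq_right.1 c3.symm
    have h2 : orderOf (jp 18) ∣ 2 := orderOf_dvd_of_pow_eq_one (by rw [pow_two, h1])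
    rw [ec] at h2
    norm_num at h2
  have hn : ∀ h ∈ A2, jp 19 * h * (jp 19)⁻¹ ∈ A2 := by
    intro h hh
    have hle : A2 ≤ A2.comap (MulAut.conj (jp 19)).toMonoidHom := by
      refine sup_le ?_ ?_ <;> rw [Subgroup.zpowers_le] <;>
        simp only [Subgroup.mem_comap, MulEquiv.coe_toMonoidHom, MulAut.conj_apply]
      · rw [c3, ← mul_assoc, ← mul_assoc, mul_inv_cancel_right]
        exact mul_mem (mul_mem h18 h18) h17
      · rw [c2, mul_inv_cancel_right]
        exact h18
    exact hle hh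
  have hcard := card_extend (H := A2) (x := jp 19) (p := 11) (by norm_num) eg hgA hn
  rw [hA2c] at hcard
  have hle : A2 ⊔ Subgroup.zpowers (jp 19) ≤
      Subgroup.closure ({jp 17, jp 18, jp 19} : Set (Equiv.Perm Vec)) :=
    sup_le (sup_le (by rw [Subgroup.zpowers_le]; exact Subgroup.subset_closure (by simp))
      (by rw [Subgroup.zpowers_le]; exact Subgroup.subset_closure (by simp)))
      (by rw [Subgroup.zpowers_le]; exact Subgroup.subset_closure (by simp))
  have := Subgroup.card_dvd_of_le hle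
  rw [hcard] at this
  exact this

attribute [local irreducible] jp wp

/-- The group has no stem extensions of degree eleven. -/
theorem noStem_eleven : NoStem 11 Gsub := by
  have h := eleven_ok
  simp only [Bool.and_eq_true] at h
  obtain ⟨⟨⟨⟨⟨⟨⟨⟨⟨-, hc⟩, hg⟩, hzc⟩, hgc⟩, hgz⟩, -⟩, mc⟩, -⟩, -⟩ := h
  have hn := norm_ok
  simp only [Bool.and_eq_true] at hn
  obtain ⟨⟨n1, n2⟩, n3⟩ := hn
  have hw : ∀ g ∈ normWord, g < 20 := by decide +kernel
  haveI : Finite Gsub := inferInstance
  have e1 : jp 17 * jp 18 = jp 18 * jp 17 := by simpa [wp_cons, wp_nil] using sameW_wp hzc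
  have e2 : jp 19 * jp 18 = jp 18 * jp 19 := by simpa [wp_cons, wp_nil] using sameW_wp hgc
  have e3 : jp 19 * jp 17 = jp 18 * (jp 18 * (jp 17 * jp 19)) := by
    simpa [wp_cons, wp_nil] using sameW_wp hgz
  have hrep : ∀ k n, wp (List.replicate n k) = jp k ^ n := fun k n => by
    rw [wp, List.map_replicate, List.prod_replicate]
  have d1 := sameW_wp n1
  have d2 := sameW_wp n2
  have d3 := sameW_wp n3
  simp only [wp_append, wp_single, wp_cons, wp_nil, hrep, mul_one] at d1 d2 d3
  have p11c : jp 18 ^ 11 = 1 := by rw [← hrep, sameW_wp hc, wp_nil]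
  have p11g : jp 19 ^ 11 = 1 := by rw [← hrep, sameW_wp hg, wp_nil]
  have hne : jp 18 ≠ 1 := by rw [← wp_single]; exact moves_ne mc
  refine noStem_of_heisenberg (p := 11) (by norm_num) (⟨jp 17, jp_mem_G (by norm_num)⟩ : Gsub)
    ⟨jp 18, jp_mem_G (by norm_num)⟩ ⟨jp 19, jp_mem_G (by norm_num)⟩
    ⟨wp normWord, wp_mem_G hw⟩ (e := 2) (m := 2) (a := 8) (k := 3) (j := 3)
    ?_ ?_ ?_ ?_ ?_ ?_ ?_ ?_ ?_ (by norm_num) (by norm_num) ?_
  · refine Subtype.ext ?_; simp only [Subgroup.coe_mul]; exact e1.symm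
  · refine Subtype.ext ?_; simp only [Subgroup.coe_mul]; exact e2.symm
  · refine Subtype.ext ?_; simp only [Subgroup.coe_mul, Subgroup.coe_pow]
    rw [e3, pow_two]; simp only [mul_assoc]
  · refine Subtype.ext ?_; simp only [Subgroup.coe_pow, Subgroup.coe_one]; exact p11g
  · refine Subtype.ext ?_; simp only [Subgroup.coe_pow, Subgroup.coe_one]; exact p11c
  · intro e
    have e' := congrArg Subtype.val e
    simp only [Subgroup.coe_pow, Subgroup.coe_one] at e'
    have hg' := pow_gcd_eq_one.2 ⟨e', p11c⟩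
    rw [show Nat.gcd 2 11 = 1 by norm_num, pow_one] at hg'
    exact hne hg'
  · refine Subtype.ext ?_; simp only [Subgroup.coe_mul, Subgroup.coe_pow]
    rw [d1, pow_two]
  · refine Subtype.ext ?_; simp only [Subgroup.coe_mul, Subgroup.coe_pow]; exact d2
  · refine Subtype.ext ?_; simp only [Subgroup.coe_mul, Subgroup.coe_pow]
    rw [d3]; simp only [pow_succ, pow_zero, one_mul, mul_assoc]
  · set H := Subgroup.closure ({⟨jp 17, jp_mem_G (by norm_num)⟩, ⟨jp 18, jp_mem_G (by norm_num)⟩,
      ⟨jp 19, jp_mem_G (by norm_num)⟩} : Set Gsub)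
    have hmap : H.map Gsub.subtype =
        Subgroup.closure ({jp 17, jp 18, jp 19} : Set (Equiv.Perm Vec)) := by
      rw [MonoidHom.map_closure, Set.image_insert_eq, Set.image_pair]
      rfl
    have hd := card_elevens
    rw [← hmap, ← Nat.card_congr (Subgroup.equivMapOfInjective H _ Gsub.subtype_injective).toEquiv]
      at hd
    have hi := H.card_mul_index
    rw [card_Gsub] at hi
    intro h11
    have := Nat.mul_dvd_mul hd h11
    rw [hi] at this
    norm_num at this

end Cfsg.Lib.J4Mult
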