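import Cfsg.Agent.Lib.J4Mult.Lifts
import Cfsg.Agent.Lib.J4Mult.ElevenJ4

/-!
# The multiplier of the presented fourth Janko group
-/

set_option autoImplicit false
set_option maxRecDepth 20000

namespace Cfsg.Lib.J4Mult

open Cfsg.Lib.Concrete (NoStem)
open Cfsg.Lib.J4Iso

instance finite_PG : Finite PG := Finite.of_equiv _ isoG.symm.toEquiv

theorem card_PG : Nat.card PG = 86775571046077562880 := by
  rw [Nat.card_congr isoG.toEquiv, J4Real.card_Gsub]

theorem noStem_PG (p : ℕ) (hp : p.Prime) : NoStem p PG := by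
  by_cases h11 : p = 11
  · subst h11; exact NoStem.of_equiv isoG.symm noStem_eleven
  by_cases hd : p ^ 2 ∣ Nat.card PG
  · refine Schur.noStem_of_index_prime hp MG (noStem_MG p hp) fun h => ?_
    rw [← threeGen_eq, index_threeGen] at h
    rw [card_PG] at hd
    have hle : p ∣ 29 * 31 * 37 * 43 * 11 * 11 := by norm_num; exact h
    have key : ∀ q : ℕ, q.Prime → p ∣ q → p = q := fun q hq h => (Nat.prime_dvd_prime_iff_eq hp hq).1 h
    simp only [hp.dvd_mul] at hle
    rcases hle with ((((h1 | h1) | h1) | h1) | h1) | h1 <;>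
      (have := key _ (by norm_num) h1; subst this; first | exact h11 rfl | norm_num at hd)
  · exact Concrete.noStem_of_not_sq_dvd hp hd

theorem multiplier_PG : Cfsg.HasCyclicSchurMultiplier PG 1 :=
  Concrete.hasTrivialMultiplier noStem_PG

end Cfsg.Lib.J4Mult
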